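import Cfsg.Statements.S1158
import Cfsg.Agent.H6.ReeCount

set_option autoImplicit false
open Cfsg

namespace Cfsg.Agent.S1158

/-- In the small Ree group ²G₂(q), q = 3^(2m+1) with m ≥ 1, realised as G¹ inside the Chevalley group G₂ over the field with q elements (θ the 3^m-th power map), with `r = 3^(m+1)` (so `r² = 3q`): for each `k ∈ {(q-1)/2, (q+1)/4, q - r + 1, q + r + 1}` there is a cyclic subgroup `A` of order `k` whose normaliser has order `2(q-1)`, `6(q+1)`, `6(q-r+1)`, `6(q+r+1)` respectively, and `N(A₀) = N(A)` for every non-trivial `A₀ ≤ A`. -/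
theorem result {K : Type*} [Field K] [Fintype K] {m : ℕ} (hm : 1 ≤ m) (hK : Fintype.card K = 3 ^ (2 * m + 1)) :
    ∀ kn ∈ ({((3 ^ (2 * m + 1) - 1) / 2, 2 * (3 ^ (2 * m + 1) - 1)), ((3 ^ (2 * m + 1) + 1) / 4, 6 * (3 ^ (2 * m + 1) + 1)),
        (3 ^ (2 * m + 1) - 3 ^ (m + 1) + 1, 6 * (3 ^ (2 * m + 1) - 3 ^ (m + 1) + 1)),
        (3 ^ (2 * m + 1) + 3 ^ (m + 1) + 1, 6 * (3 ^ (2 * m + 1) + 3 ^ (m + 1) + 1))} : Set (ℕ × ℕ)),
      ∃ A : Subgroup ↥(Cfsg.Lie.twistedG2 K (3 ^ m)), IsCyclic A ∧ Nat.card A = kn.1 ∧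
        Nat.card (Subgroup.normalizer (A : Set ↥(Cfsg.Lie.twistedG2 K (3 ^ m)))) = kn.2 ∧
        ∀ A₀ : Subgroup ↥(Cfsg.Lie.twistedG2 K (3 ^ m)), A₀ ≤ A → A₀ ≠ ⊥ →
          Subgroup.normalizer (A₀ : Set ↥(Cfsg.Lie.twistedG2 K (3 ^ m))) = Subgroup.normalizer (A : Set ↥(Cfsg.Lie.twistedG2 K (3 ^ m))) := by
  obtain ⟨_, ψ, M, -, -⟩ := H6.Ree.exists_model' hK
  have hK' : Nat.card K = 3 ^ (2 * m + 1) := by rw [Nat.card_eq_fintype_card, hK]
  have := M.finite
  have hq : Nat.card K % 8 = 3 := by rw [hK']; exact H6.Ree.pow_mod_eight m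
  have hq' : 8 ≤ Nat.card K := by
    rw [hK']
    exact le_trans (by norm_num) (Nat.pow_le_pow_right (by norm_num) (show 3 ≤ 2 * m + 1 by omega))
  obtain ⟨x, y, h1, h2, h3, h4, h5, h6, h7, h8, h9⟩ := M.exists_tori hK' hm
  obtain ⟨k, hk⟩ := IsCyclic.exists_generator (α := Kˣ)
  have hk' : orderOf k = Nat.card K - 1 := by rw [orderOf_eq_card_of_forall_mem_zpowers hk, Nat.card_units]
  have hk2 : orderOf (M.h k) = Nat.card K - 1 := by
    rw [← hk']; exact orderOf_injective M.hHom M.hHom_injective k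
  obtain ⟨γ, g1, g2, g3, g4⟩ := M.exists_gen
  have sq_conj : ∀ y g : ↥(Cfsg.Lie.twistedG2 K (3 ^ m)), ∀ j : ℤ,
      y * (g ^ 2) ^ j * y⁻¹ = ((y * g * y⁻¹) ^ 2) ^ j := fun y g j => by rw [conj_pow, conj_zpow]
  rintro kn (rfl | rfl | rfl | rfl)
  · have hN : ∀ A₀ ≤ Subgroup.zpowers (M.h k ^ 2), A₀ ≠ ⊥ →
        Subgroup.normalizer (A₀ : Set ↥(Cfsg.Lie.twistedG2 K (3 ^ m))) = Subgroup.normalizer M.H := by
      apply H6.Grp.normalizer_eq_of_TI inferInstance
      · rintro _ ⟨j, rfl⟩ hj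
        have e : (M.h k ^ 2) ^ j = M.h ((k ^ j) ^ 2) := by
          rw [← zpow_natCast, ← zpow_mul, mul_comm, zpow_mul, zpow_natCast, ← M.h_pow]
          congr 1
          exact (map_zpow M.hHom k j).symm
        simp only [e] at hj ⊢
        apply M.centralizer_h
        · exact fun h => hj (M.h_eq_one.2 h)
        · intro h
          exact M.not_isSquare_neg_one ⟨(k ^ j : Kˣ), by rw [← Units.val_mul, ← sq, h]; rfl⟩
      · rintro y hy _ ⟨j, rfl⟩
        obtain ⟨l, hl⟩ := M.mem_H.1 ((Subgroup.mem_normalizer_iff.1 hy _).1 (M.h_mem_H k))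
        obtain ⟨i, rfl⟩ := hk l
        simp only [sq_conj, hl]
        refine Subgroup.zpow_mem (Subgroup.zpowers (M.h k ^ 2)) ⟨i, ?_⟩ j
        simp only
        rw [← zpow_natCast, ← zpow_mul, mul_comm, zpow_mul, zpow_natCast]
        congr 1
        exact (map_zpow M.hHom k i).symm
    have ho : orderOf (M.h k ^ 2) = (Nat.card K - 1) / 2 := by
      rw [orderOf_pow_of_dvd two_ne_zero (by rw [hk2]; omega), hk2]
    have hne : Subgroup.zpowers (M.h k ^ 2) ≠ ⊥ := by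
      rw [Ne, Subgroup.zpowers_eq_bot, ← orderOf_eq_one_iff, ho]; omega
    refine ⟨Subgroup.zpowers (M.h k ^ 2), inferInstance, by rw [Nat.card_zpowers, ho, hK'], ?_,
      fun A₀ h h' => by rw [hN A₀ h h', hN _ le_rfl hne]⟩
    rw [hN _ le_rfl hne, M.card_normalizer_H, hK']
    refine ⟨k, ?_, ?_⟩ <;> rintro rfl
    · rw [orderOf_one] at hk'; omega
    · have := Nat.le_of_dvd two_pos (orderOf_dvd_of_pow_eq_one (show (-1 : Kˣ) ^ 2 = 1 by simp))
      omega
  · have ho : orderOf (γ ^ 2) = (Nat.card K + 1) / 4 := by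
      rw [orderOf_pow_of_dvd two_ne_zero (by omega)]; omega
    have hN : ∀ A₀ ≤ Subgroup.zpowers (γ ^ 2), A₀ ≠ ⊥ →
        Subgroup.normalizer (A₀ : Set ↥(Cfsg.Lie.twistedG2 K (3 ^ m))) = Subgroup.normalizer M.T := by
      apply H6.Grp.normalizer_eq_of_TI inferInstance
      · intro z hz hz1
        refine M.centralizer_T hq ((Subgroup.zpowers_le).2 (M.T.pow_mem g1 2) hz) fun h => hz1 ?_
        have e1 := Subgroup.orderOf_dvd_natCard _ hz
        rw [Nat.card_zpowers, ho] at e1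
        have e2 := orderOf_dvd_of_pow_eq_one (show z ^ 2 = 1 by rw [sq, h])
        exact orderOf_eq_one_iff.1 (Nat.eq_one_of_dvd_coprimes
          (Nat.coprime_two_left.2 (Nat.odd_iff.2 (by omega))) e2 e1)
      · rintro y hy _ ⟨j, rfl⟩
        have hz := (Subgroup.mem_normalizer_iff.1 hy _).1 g1
        simp only [sq_conj]
        refine Subgroup.zpow_mem _ ?_ j
        have key : ∀ z ∈ Subgroup.zpowers γ, z ^ 2 ∈ Subgroup.zpowers (γ ^ 2) := by
          rintro _ ⟨i, rfl⟩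
          exact ⟨i, by simp only; rw [← zpow_natCast, ← zpow_mul, mul_comm, zpow_mul, zpow_natCast]⟩
        rcases g4 _ hz with h | h
        · exact key _ h
        · have := key _ h
          rwa [Commute.mul_pow (M.T_comm hz M.a_mem_T), sq M.a, M.a_mul_a, mul_one] at this
    have hne : Subgroup.zpowers (γ ^ 2) ≠ ⊥ := by
      rw [Ne, Subgroup.zpowers_eq_bot, ← orderOf_eq_one_iff, ho]; omega
    refine ⟨Subgroup.zpowers (γ ^ 2), inferInstance, by rw [Nat.card_zpowers, ho, hK'], ?_,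
      fun A₀ h h' => by rw [hN A₀ h h', hN _ le_rfl hne]⟩
    rw [hN _ le_rfl hne, M.card_normalizer_T hq hq', hK']
  · exact ⟨_, (H6.Grp.torus M.card_G' (M.torus_hyp hK') h1 h2).1, h5, by rw [h7, h5],
      H6.Grp.torus_normalizer M.card_G' (M.torus_hyp hK') h1 h2⟩
  · exact ⟨_, (H6.Grp.torus M.card_G' (M.torus_hyp hK') h3 h4).1, h6, by rw [h8, h6],
      H6.Grp.torus_normalizer M.card_G' (M.torus_hyp hK') h3 h4⟩

end Cfsg.Agent.S1158
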