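import Cfsg.Statements.S1159
import Cfsg.Agent.H6.ReeCount

set_option autoImplicit false
open Cfsg

namespace Cfsg.Agent.S1159

/-- In the small Ree group ²G₂(q), q = 3^(2m+1) with m ≥ 1, realised as G¹ inside the Chevalley group G₂ over the field with q elements (θ the 3^m-th power map), with `r = 3^(m+1)`: a natural number is the order of an element of `G¹` iff it divides one of `6`, `9`, `q - 1`, `(q + 1)/2`, `q - r + 1`, `q + r + 1`. -/
theorem result {K : Type*} [Field K] [Fintype K] {m : ℕ} (hm : 1 ≤ m) (hK : Fintype.card K = 3 ^ (2 * m + 1)) (d : ℕ) :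
    (∃ g : ↥(Cfsg.Lie.twistedG2 K (3 ^ m)), orderOf g = d) ↔
      (d ∣ 6 ∨ d ∣ 9 ∨ d ∣ 3 ^ (2 * m + 1) - 1 ∨ d ∣ (3 ^ (2 * m + 1) + 1) / 2 ∨
        d ∣ 3 ^ (2 * m + 1) - 3 ^ (m + 1) + 1 ∨ d ∣ 3 ^ (2 * m + 1) + 3 ^ (m + 1) + 1) := by
  obtain ⟨_, ψ, M, -, -⟩ := H6.Ree.exists_model' hK
  have hK' : Nat.card K = 3 ^ (2 * m + 1) := by rw [Nat.card_eq_fintype_card, hK]
  have := M.finite
  have hq : Nat.card K % 8 = 3 := by rw [hK']; exact H6.Ree.pow_mod_eight m
  have hq' : 8 ≤ Nat.card K := by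
    rw [hK']
    exact le_trans (by norm_num) (Nat.pow_le_pow_right (by norm_num) (show 3 ≤ 2 * m + 1 by omega))
  obtain ⟨x, y, h1, h2, h3, h4, h5, h6, h7, h8, h9⟩ := M.exists_tori hK' hm
  obtain ⟨k, hk⟩ := IsCyclic.exists_generator (α := Kˣ)
  have hk' : orderOf k = Nat.card K - 1 := by rw [orderOf_eq_card_of_forall_mem_zpowers hk, Nat.card_units]
  have hk2 : orderOf (M.h k) = Nat.card K - 1 := by
    rw [← hk']; exact orderOf_injective M.hHom M.hHom_injective k
  obtain ⟨γ, g1, g2, g3, g4⟩ := M.exists_gen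
  have hconj : ∀ g z : ↥(Cfsg.Lie.twistedG2 K (3 ^ m)), orderOf (g⁻¹ * z * g) = orderOf z := fun g z => by
    rw [show g⁻¹ * z * g = MulAut.conj g⁻¹ z by simp, MulEquiv.orderOf_eq]
  constructor
  · rintro ⟨z, rfl⟩
    rcases M.trichotomy hK' z with h | ⟨g, h⟩ | ⟨g, h⟩
    · by_cases hz : z = 1
      · simp [hz]
      rcases h9 z hz h with ⟨g, hg, -⟩ | ⟨g, hg, -⟩
      · have := H6.Ree.orderOf_dvd_of_conj_mem hg
        rw [h5] at this
        tauto
      · have := H6.Ree.orderOf_dvd_of_conj_mem hg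
        rw [h6] at this
        tauto
    · have := M.order_B h
      simp only [← orderOf_dvd_iff_pow_eq_one, hconj, hK'] at this
      tauto
    · have := M.T_pow hq h
      simp only [← orderOf_dvd_iff_pow_eq_one, hconj, hK'] at this
      tauto
  · have key : ∀ z : ↥(Cfsg.Lie.twistedG2 K (3 ^ m)), d ∣ orderOf z →
        ∃ g : ↥(Cfsg.Lie.twistedG2 K (3 ^ m)), orderOf g = d := fun z h =>
      let ⟨j, hj⟩ := H6.Grp.exists_prime_pow h
      ⟨_, hj⟩
    have key2 : ∀ A : Subgroup ↥(Cfsg.Lie.twistedG2 K (3 ^ m)), IsCyclic A → d ∣ Nat.card A →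
        ∃ g : ↥(Cfsg.Lie.twistedG2 K (3 ^ m)), orderOf g = d := by
      intro A hA h
      obtain ⟨z, hz⟩ := hA.exists_generator
      exact key z (by rw [Subgroup.orderOf_coe, orderOf_eq_card_of_forall_mem_zpowers hz]; exact h)
    rintro (h | h | h | h | h | h)
    · apply key (M.a * M.x 0 1 0)
      have e1 : orderOf M.a = 2 := orderOf_eq_prime (by rw [sq, M.a_mul_a]) M.a_ne_one
      have e2 : orderOf (M.x 0 1 0) = 3 :=
        orderOf_eq_prime (M.x_cube_eq_one.2 rfl) (fun h => one_ne_zero (M.x_eq_one.1 h).2.1)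
      rw [Commute.orderOf_mul_eq_mul_orderOf_of_coprime (by rw [← M.φ_sU]; exact M.a_φ _) (by rw [e1, e2]; norm_num),
        e1, e2]
      exact h
    · apply key (M.x 1 0 0)
      rw [orderOf_eq_prime_pow (p := 3) (n := 1) (by simp [M.x_cube_eq_one]) (M.x_pow_nine 1 0 0)]
      exact h
    · exact key (M.h k) (by rw [hk2, hK']; exact h)
    · exact key γ (by rwa [← hK', ← g2, Nat.mul_div_cancel_left _ two_pos] at h)
    · exact key2 _ (H6.Grp.torus M.card_G' (M.torus_hyp hK') h1 h2).1 (h5 ▸ h)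
    · exact key2 _ (H6.Grp.torus M.card_G' (M.torus_hyp hK') h3 h4).1 (h6 ▸ h)

end Cfsg.Agent.S1159
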