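import Cfsg.Statements.S5726
import Cfsg.Agent.H1.Basic

set_option autoImplicit false
open Cfsg

namespace Cfsg.Agent.S5726


/-- If a finite group acts faithfully and transitively on a set with p^k elements, p a prime and k ≥ 1, then some element of order p fixes no point. -/
theorem result {G Ω : Type*} [Group G] [Finite G] [MulAction G Ω] [FaithfulSMul G Ω] [Fintype Ω] (htr : MulAction.IsPretransitive G Ω)
    (p k : ℕ) (hp : p.Prime) (hk : 1 ≤ k) (hΩ : Fintype.card Ω = p ^ k) :
    ∃ g : G, orderOf g = p ∧ ∀ ω : Ω, g • ω ≠ ω := by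
  classical
  have : Fact p.Prime := ⟨hp⟩
  let P : Sylow p G := default
  have htrP := Cfsg.Agent.H1.Basic.sylow_pretransitive (G := G) (Ω := Ω) (p := p) (k := k)
    (by rw [Nat.card_eq_fintype_card, hΩ]) P
  have hnt : Nontrivial Ω := by
    rw [← Fintype.one_lt_card_iff_nontrivial, hΩ]
    exact Nat.one_lt_pow (by omega) hp.one_lt
  have hPnt : Nontrivial (P : Subgroup G) := by
    obtain ⟨a, b, hab⟩ := exists_pair_ne Ω
    obtain ⟨g, hg⟩ := MulAction.exists_smul_eq (P : Subgroup G) a b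
    refine ⟨⟨g, 1, fun h => hab ?_⟩⟩
    rw [← hg, h, one_smul]
  have hZ := P.isPGroup'.center_nontrivial
  have hZp : IsPGroup p (Subgroup.center (P : Subgroup G)) := P.isPGroup'.to_subgroup _
  obtain ⟨n, hn0, hn⟩ := hZp.nontrivial_iff_card.1 hZ
  obtain ⟨z, hz⟩ := exists_prime_orderOf_dvd_card' (G := Subgroup.center (P : Subgroup G)) p
    (by rw [hn]; exact dvd_pow_self p hn0.ne')
  refine ⟨z.1.1, by rw [Subgroup.orderOf_coe, Subgroup.orderOf_coe]; exact hz, ?_⟩
  intro ω hω
  have h1 : z.1.1 = 1 := by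
    apply FaithfulSMul.eq_of_smul_eq_smul (α := Ω)
    intro x
    obtain ⟨g, hg⟩ := MulAction.exists_smul_eq (P : Subgroup G) ω x
    have hc : g.1 * z.1.1 = z.1.1 * g.1 := congrArg Subtype.val (Subgroup.mem_center_iff.1 z.2 g)
    rw [← hg, Subgroup.smul_def, ← mul_smul, ← hc, mul_smul, hω, one_smul]
  have h2 : z = 1 := Subtype.ext (Subtype.ext h1)
  rw [h2, orderOf_one] at hz
  exact hp.one_lt.ne hz

end Cfsg.Agent.S5726
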