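import Cfsg.Statements.S5727
import Cfsg.Agent.H1.Derange
import Cfsg.Agent.S5726

set_option autoImplicit false
open Cfsg

namespace Cfsg.Agent.S5727

open MulAction Finset Cfsg.Agent.H1.Derange


/-- If a finite group acts faithfully and transitively on a set with m·p elements, where p is a prime and 1 ≤ m ≤ p, then some element of order p fixes no point. -/
theorem result {G Ω : Type*} [Group G] [Finite G] [MulAction G Ω] [FaithfulSMul G Ω] [Fintype Ω] (htr : MulAction.IsPretransitive G Ω)
    (p m : ℕ) (hp : p.Prime) (hm : 1 ≤ m) (hmp : m ≤ p) (hΩ : Fintype.card Ω = m * p) :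
    ∃ g : G, orderOf g = p ∧ ∀ ω : Ω, g • ω ≠ ω := by
  classical
  rcases eq_or_lt_of_le hmp with rfl | hlt
  · exact Cfsg.Agent.S5726.result htr m 2 hp (by norm_num) (by rw [hΩ, pow_two])
  have : Fact p.Prime := ⟨hp⟩
  let P : Sylow p G := default
  have horb : ∀ a : Ω, (stabilizer (P : Subgroup G) a).index = p := by
    intro a
    have h1 := Cfsg.Agent.H1.Basic.pow_dvd_card_orbit_sylow (k := 1) P a (by
      rw [orbit_eq_univ, Nat.card_univ, Nat.card_eq_fintype_card, hΩ, pow_one]
      exact Dvd.intro_left m rfl)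
    obtain ⟨k, hk⟩ := P.isPGroup'.card_orbit a
    have h2 : Nat.card (orbit (P : Subgroup G) a) ≤ Nat.card Ω :=
      Nat.card_le_card_of_injective _ Subtype.val_injective
    rw [index_stabilizer]
    change Nat.card (orbit (P : Subgroup G) a) = p
    rw [hk] at h1 h2 ⊢
    rw [Nat.card_eq_fintype_card, hΩ] at h2
    rcases k with _ | _ | k
    · simp at h1; exact absurd h1 hp.one_lt.ne'
    · simp
    · exfalso
      have h3 : p ^ 2 ≤ p ^ (k + 1 + 1) := Nat.pow_le_pow_right hp.pos (by omega)
      have h4 : m * p < p * p := Nat.mul_lt_mul_of_pos_right hlt hp.pos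
      rw [pow_two] at h3
      omega
  have hne : Nonempty Ω := Fintype.card_pos_iff.1 (by rw [hΩ]; exact Nat.mul_pos hm hp.pos)
  have hnormal : ∀ a : Ω, (stabilizer (P : Subgroup G) a).Normal := by
    intro a
    apply Subgroup.normal_of_index_eq_minFac_card
    obtain ⟨k, hk⟩ := IsPGroup.iff_card.1 P.isPGroup'
    have h1 := (stabilizer (P : Subgroup G) a).index_dvd_card
    rw [horb, hk] at h1
    rw [horb, hk, hp.pow_minFac]
    rintro rfl
    simp at h1; exact absurd h1 hp.one_lt.ne'
  have := Fintype.ofFinite (P : Subgroup G)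
  obtain ⟨g, hg⟩ : ∃ g : (P : Subgroup G), ∀ ω : Ω, g • ω ≠ ω := by
    by_contra hc
    push Not at hc
    have h1 : ∀ g : (P : Subgroup G), p ≤ Nat.card (fixedBy Ω g) := by
      intro g
      obtain ⟨a, ha⟩ := hc g
      have h2 : orbit (P : Subgroup G) a ⊆ fixedBy Ω g := by
        rintro _ ⟨x, rfl⟩
        have h3 := (hnormal a).conj_mem g ha x⁻¹
        rw [mem_stabilizer_iff, inv_inv, mul_smul, mul_smul, inv_smul_eq_iff] at h3
        exact h3
      have h3 := Set.ncard_le_ncard h2
      rw [← index_stabilizer, horb] at h3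
      exact h3
    have h2 : ∑ g : (P : Subgroup G), Nat.card (fixedBy Ω g) =
        ∑ a : Ω, Nat.card (stabilizer (P : Subgroup G) a) := by
      have h3 : ∀ g : (P : Subgroup G), Nat.card (fixedBy Ω g) =
          ∑ a : Ω, if g • a = a then 1 else 0 := by
        intro g
        rw [Nat.card_eq_fintype_card, Fintype.card_subtype, sum_boole]; simp
      have h4 : ∀ a : Ω, Nat.card (stabilizer (P : Subgroup G) a) =
          ∑ g : (P : Subgroup G), if g • a = a then 1 else 0 := by
        intro a
        rw [Nat.card_eq_fintype_card, Fintype.card_subtype, sum_boole]; simp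
      simp only [h3, h4]
      exact sum_comm
    have h3 : (∑ a : Ω, Nat.card (stabilizer (P : Subgroup G) a)) * p =
        m * p * Nat.card (P : Subgroup G) := by
      rw [sum_mul, sum_congr rfl (g := fun _ => Nat.card (P : Subgroup G)) (fun a _ => by
        have := (stabilizer (P : Subgroup G) a).card_mul_index
        rwa [horb] at this), sum_const, card_univ, hΩ, smul_eq_mul]
    have h4 : Nat.card (P : Subgroup G) * p ≤ ∑ g : (P : Subgroup G), Nat.card (fixedBy Ω g) := by
      have := card_nsmul_le_sum univ _ p (fun g _ => h1 g)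
      rwa [card_univ, smul_eq_mul, ← Nat.card_eq_fintype_card] at this
    have h5 : 0 < Nat.card (P : Subgroup G) := Nat.card_pos
    rw [h2] at h4
    have h6 := Nat.mul_le_mul_right p h4
    rw [h3] at h6
    have h7 : m * (p * Nat.card (P : Subgroup G)) < p * (p * Nat.card (P : Subgroup G)) :=
      Nat.mul_lt_mul_of_pos_right hlt (Nat.mul_pos hp.pos h5)
    nlinarith
  refine ⟨g, orderOf_eq_prime ?_ ?_, hg⟩
  · apply FaithfulSMul.eq_of_smul_eq_smul (α := Ω)
    intro a
    have := hnormal a
    have h1 := (stabilizer (P : Subgroup G) a).pow_index_mem g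
    rw [horb] at h1
    rw [one_smul]
    exact h1
  · intro h
    apply hg hne.some
    rw [Subgroup.smul_def, h, one_smul]

end Cfsg.Agent.S5727
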