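import Cfsg.Statements.S5728
import Mathlib

set_option autoImplicit false
open Cfsg

namespace Cfsg.Agent.S5728


/-- An elusive transitive action. Let p = 2^s − 1 be a prime and let F be the field with p² elements. Inside the group of affine maps x ↦ a·x + b of F (a ≠ 0), consider the subgroup of maps with both coefficients in the prime field. Then every element of prime order of the affine group is conjugate, within the affine group, to an element of that subgroup; equivalently, in the transitive action of the affine group on the cosets of that subgroup (of degree p(p + 1)) every element of prime order fixes a point. -/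
theorem result (p s : ℕ) [Fact p.Prime] (hs : p = 2 ^ s - 1)
    (g : Equiv.Perm (GaloisField p 2)) (hg : g ∈ Cfsg.affineGroup (GaloisField p 2)) (hord : (orderOf g).Prime) :
    ∃ x ∈ Cfsg.affineGroup (GaloisField p 2), ∃ a b : ZMod p, a ≠ 0 ∧
      ∀ y : GaloisField p 2, (x * g * x⁻¹) y = algebraMap (ZMod p) (GaloisField p 2) a * y + algebraMap (ZMod p) (GaloisField p 2) b := by
  classical
  have hp : p.Prime := Fact.out
  obtain ⟨a, b, hab⟩ := hg
  have hpow : ∀ n : ℕ, ∀ y, (g ^ n) y - (g ^ n) 0 = (a : GaloisField p 2) ^ n * y := by
    intro n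
    induction n with
    | zero => intro y; simp
    | succ n ih =>
      intro y
      rw [pow_succ', Equiv.Perm.mul_apply, Equiv.Perm.mul_apply, hab, hab, pow_succ', mul_assoc,
        ← ih y]
      ring
  have har : (a : GaloisField p 2) ^ orderOf g = 1 := by
    have := hpow (orderOf g) 1
    rw [pow_orderOf_eq_one] at this
    simpa using this.symm
  by_cases ha : a = 1
  · subst ha
    have hb : b ≠ 0 := by
      rintro rfl
      have : g = 1 := by ext y; simp [hab]
      rw [this, orderOf_one] at hord
      exact Nat.not_prime_one hord
    refine ⟨Equiv.mulLeft₀ b⁻¹ (inv_ne_zero hb), ⟨Units.mk0 b⁻¹ (inv_ne_zero hb), 0, fun x => by simp⟩,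
      1, 1, one_ne_zero, fun y => ?_⟩
    simp [hab, Equiv.Perm.inv_def, mul_add, hb]
  · have ha' : (1 : GaloisField p 2) - a ≠ 0 := by
      intro h
      apply ha
      apply Units.ext
      rw [sub_eq_zero] at h
      simp [← h]
    have hcard : Nat.card (GaloisField p 2) = p ^ 2 := GaloisField.card p 2 two_ne_zero
    have hord_a : orderOf a = orderOf g := by
      have : Fact (orderOf g).Prime := ⟨hord⟩
      apply orderOf_eq_prime _ ha
      apply Units.ext
      simpa using har
    have hdvd : orderOf g ∣ (p + 1) * (p - 1) := by
      rw [← hord_a]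
      have h1 := orderOf_dvd_natCard a
      rw [Nat.card_units, hcard] at h1
      have h2 : p ^ 2 - 1 = (p + 1) * (p - 1) := by
        have := Nat.sq_sub_sq p 1
        simpa using this
      rwa [h2] at h1
    have hs1 : p + 1 = 2 ^ s := by
      have : 0 < 2 ^ s := by positivity
      omega
    have hdvd' : orderOf g ∣ p - 1 := by
      rcases (Nat.Prime.dvd_mul hord).1 hdvd with h | h
      · rw [hs1] at h
        have h2 : orderOf g = 2 :=
          (Nat.prime_dvd_prime_iff_eq hord Nat.prime_two).1 (hord.dvd_of_dvd_pow h)
        rw [h2]
        have h3 : 2 ∣ p + 1 := by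
          rw [hs1]; rw [h2] at h; exact h
        have := hp.pos
        omega
      · exact h
    have hap : (a : GaloisField p 2) ^ p = a := by
      obtain ⟨c, hc⟩ := hdvd'
      have h1 : p = orderOf g * c + 1 := by have := hp.pos; omega
      calc (a : GaloisField p 2) ^ p = (a : GaloisField p 2) ^ (orderOf g * c + 1) := by rw [← h1]
        _ = a := by rw [pow_succ, pow_mul, har, one_pow, one_mul]
    obtain ⟨a', ha''⟩ : ∃ a' : ZMod p, algebraMap (ZMod p) (GaloisField p 2) a' = a := by
      have h1 : (a : GaloisField p 2) ∈ (⊥ : Subfield (GaloisField p 2)) := by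
        rw [Subfield.mem_bot_iff_pow_eq_self (GaloisField p 2) p]
        exact hap
      have h2 : (⊥ : Subfield (GaloisField p 2)) ≤ (algebraMap (ZMod p) (GaloisField p 2)).fieldRange :=
        bot_le
      exact h2 h1
    refine ⟨Equiv.addRight (-(b / (1 - a))), ⟨1, -(b / (1 - a)), fun x => by simp⟩,
      a', 0, ?_, fun y => ?_⟩
    · rintro rfl
      simp at ha''
      exact a.ne_zero ha''.symm
    · simp only [Equiv.Perm.mul_apply, hab, ha'', Equiv.Perm.inv_def, Equiv.addRight_symm, neg_neg,
        Equiv.coe_addRight, map_zero, add_zero]
      field_simp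
      ring

end Cfsg.Agent.S5728
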