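import Cfsg.Statements.S5740
import Cfsg.Agent.H7.T2b
import Cfsg.Agent.H7.TWb

set_option autoImplicit false
open Cfsg

namespace Cfsg.Agent.S5740

/-- In the simple group ²E₆(2) (the twisted group of type E₆ over the field with 4 elements), for every prime p > 5 no p-local subgroup is maximal: the normaliser of a non-trivial p-subgroup is never a maximal subgroup. -/
theorem result {K : Type*} [Field K] [Fintype K] (hK : Fintype.card K = 4) (p : ℕ) (hp : p.Prime) (h5 : 5 < p)
    (P : Subgroup (Cfsg.Lie.twistedE6 K 2)) (hP : IsPGroup p P) (hP1 : P ≠ ⊥) :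
    ¬ IsCoatom (Subgroup.normalizer (P : Set (Cfsg.Lie.twistedE6 K 2))) := by
  have : CharP K 2 := charP_of_card_eq_prime_pow (p := 2) (f := 2) hK
  have h3 : ∀ c : K, c ≠ 0 → c ^ 3 = 1 := fun c hc => by
    simpa [hK] using FiniteField.pow_card_sub_one_eq_one c hc
  obtain ⟨ω, h0, h1⟩ : ∃ ω : K, ω ≠ 0 ∧ ω ≠ 1 := by
    classical
    by_contra! h
    have := Finset.card_le_card (show Finset.univ ⊆ ({0, 1} : Finset K) from fun x _ => by
      by_cases hx : x = 0 <;> simp [hx, h x])
    have := this.trans Finset.card_le_two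
    simp [hK] at this
  have hω : ω * ω = ω + 1 := by have := h3 ω h0; grind
  exact H7.T2.main hω h3 hp h5 (fun _ => H7.TW.bound hK hp h5) hP hP1

end Cfsg.Agent.S5740
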