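import Cfsg.Statements.S5742
import Cfsg.Agent.H4.FiTop
import Cfsg.Agent.H4.FiG

set_option autoImplicit false
open Cfsg

namespace Cfsg.Agent.S5742

/-- The simple group ²E₆(2) (the twisted group of type E₆ over the field with 4 elements) contains at least three pairwise non-conjugate subgroups isomorphic to the Fischer group Fi₂₂. -/
theorem result {K : Type*} [Field K] [Fintype K] (hK : Fintype.card K = 4) :
    ∃ H : Fin 3 → Subgroup (Cfsg.Lie.twistedE6 K 2),
      (∀ i, Cfsg.Spor.IsoFi22 (H i)) ∧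
      (∀ i j, i ≠ j → ∀ g : (Cfsg.Lie.twistedE6 K 2), (H i).map (MulAut.conj g).toMonoidHom ≠ H j) := by
  open H4.Fi H4.BP in
  obtain ⟨_, h3, ω, hω⟩ := H4.E6T.setup hK
  have hne := e_ne
  simp only [Bool.and_eq_true] at hne
  obtain ⟨H, h1, h2⟩ := three_sub h3 hω sys0
    (inj0 (gE_sq ω) (gE_R1 hω) fun w hw => gE_rel hω (List.all_eq_true.1 e_RA w hw))
    (a := 0) (b := 1) (c := 2) (by decide) (by decide) (by decide) orb0 (fun _ => base) (gE_ne hω 3 4 hne.1.1.1)
    (gE_ne hω 0 9 hne.1.1.2) (by decide) (n := 20) (by norm_num) (by exact aut0)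
  exact ⟨H, fun i => ⟨(h1 i).some.trans iso0.some⟩, h2⟩

end Cfsg.Agent.S5742
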