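import Cfsg.Statements.S5743
import Cfsg.Agent.H7.E6b

set_option autoImplicit false
open Cfsg

namespace Cfsg.Agent.S5743

/-- The simple group ²E₆(2) (the twisted group of type E₆ over the field with 4 elements) contains at least three pairwise non-conjugate subgroups isomorphic to the Chevalley group F₄(2). -/
theorem result {K : Type*} [Field K] [Fintype K] (hK : Fintype.card K = 4) :
    ∃ H : Fin 3 → Subgroup (Cfsg.Lie.twistedE6 K 2),
      (∀ i, Nonempty ((H i) ≃* Cfsg.Lie.chevF4.group (ZMod 2))) ∧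
      (∀ i j, i ≠ j → ∀ g : (Cfsg.Lie.twistedE6 K 2), (H i).map (MulAut.conj g).toMonoidHom ≠ H j) := by
  open H7.E6 in
  have : CharP K 2 := charP_of_card_eq_prime_pow (p := 2) (f := 2) hK
  have h3 : ∀ c : K, c ≠ 0 → c ^ 3 = 1 := fun c hc => by
    simpa [hK] using FiniteField.pow_card_sub_one_eq_one c hc
  obtain ⟨ω, h0, h1⟩ : ∃ ω : K, ω ≠ 0 ∧ ω ≠ 1 := by
    classical
    by_contra! h
    have := Finset.card_le_card (show Finset.univ ⊆ ({0, 1} : Finset K) from fun x _ => by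
      by_cases hx : x = 0 <;> simp [hx, h x])
    have := this.trans Finset.card_le_two
    simp [hK] at this
  have hω : ω * ω = ω + 1 := by have := h3 ω h0; grind
  let H (i : ℕ) := (H7.E6.H0 K).map (MulAut.conj (H7.E6.dU hω ^ i)).toMonoidHom
  have hH : ∀ i, H i ≤ Cfsg.Lie.twistedE6 K 2 := by
    rintro i _ ⟨a, ha, rfl⟩
    exact H7.E6.dU_pow_norm hω i (H7.E6.H0_le ha)
  refine ⟨fun i => (H i).subgroupOf _, fun i => ⟨(Subgroup.subgroupOfEquivOfLe (hH i)).trans
    (((H7.E6.H0 K).equivMapOfInjective _ (MulEquiv.injective _)).symm.trans H7.E6.H0_iso.some)⟩,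
    fun i j hij g e => hij ?_⟩
  have := H7.E6.not_conj h3 hω (i := i) (j := j) g.2 fun a ha => e.le
    ⟨⟨_, hH i ⟨a, ha, rfl⟩⟩, ⟨a, ha, rfl⟩, rfl⟩
  fin_cases i <;> fin_cases j <;> simp at this ⊢ <;> grind

end Cfsg.Agent.S5743
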