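import Cfsg.Statements.S5744
import Cfsg.Agent.H4.FiO
import Cfsg.Agent.H4.FiS1

set_option autoImplicit false
open Cfsg

namespace Cfsg.Agent.S5744

/-- The simple group ²E₆(2) (the twisted group of type E₆ over the field with 4 elements) contains at least three pairwise non-conjugate subgroups isomorphic to the orthogonal group Ω₇(3) (the commutator subgroup of the isometry group of x₀² + x₁y₁ + x₂y₂ + x₃y₃ over the field with 3 elements). -/
theorem result {K : Type*} [Field K] [Fintype K] (hK : Fintype.card K = 4) :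
    ∃ H : Fin 3 → Subgroup (Cfsg.Lie.twistedE6 K 2),
      (∀ i, Nonempty ((H i) ≃* Cfsg.Omega (ZMod 3) (Cfsg.quadFormOdd 3 (ZMod 3)))) ∧
      (∀ i j, i ≠ j → ∀ g : (Cfsg.Lie.twistedE6 K 2), (H i).map (MulAut.conj g).toMonoidHom ≠ H j) := by
  open H4.Fi H4.BP in
  obtain ⟨_, h3, ω, hω⟩ := H4.E6T.setup hK
  have hne := e_ne
  simp only [Bool.and_eq_true] at hne
  obtain ⟨H, h1, h2⟩ := three_sub h3 hω sys1 (inj1 (gE_sq ω) (gE_R1 hω))
    (a := 6) (b := 5) (c := 1) (by decide) (by decide) (by decide) orb1 (fun _ => base1) (gE_ne hω 0 11 hne.1.2)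
    (gE_ne hω 0 11 hne.2) (by decide) (n := 4) (by norm_num) (by exact aut1)
  exact ⟨H, fun i => ⟨(h1 i).some.trans O7.iso1.some⟩, h2⟩

end Cfsg.Agent.S5744
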