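import Cfsg.Statements.S5792
import Cfsg.Agent.H8.L5k
import Cfsg.Agent.H8.L5a
import Cfsg.Agent.H8.L5b
import Cfsg.Agent.H7.SL4b
import Cfsg.Agent.H1.SLAll
import Cfsg.Agent.H1.C5

set_option autoImplicit false
open Cfsg

namespace Cfsg.Agent.S5792

/-- Maximal subgroups of SL_5(q) of geometric type, for a finite field F with q elements (any q); p denotes the characteristic. Each of the following subgroups of GL_5(F), intersected with SL_5(F), is a maximal subgroup of SL_5(F): (1) the stabiliser of any proper non-zero subspace of F^5; (2) for q ≥ 5, the stabiliser of any decomposition of F^5 into 5 independent 1-spaces; (3) the normaliser of any degree-5 subfield of the 5 × 5 matrix algebra over F (a commutative subalgebra of dimension 5 in which every non-zero element is invertible); (4) every subfield group (a conjugate of GL_5(F₀) times the scalars of F) for a subfield F₀ with |F| = |F₀|^r, r prime; (5) for q = p prime with p ≡ 1 mod 5, the normaliser of any absolutely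 irreducible 5-subgroup R of exponent 5 and order 5^(1+2m) with centre of order 5, all of whose characteristic abelian subgroups are cyclic, F being the smallest field of characteristic p containing the fifth roots of unity (here R is extraspecial of order 125); (6) for q odd, the group of similarities of any non-degenerate quadratic form on F^5; (7) the group of similarities of any non-degenerate unitary form on F^5 (these exist exactly when q is a square). -/
theorem result {F : Type*} [Field F] [Fintype F] :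
    (∀ W : Submodule F (Fin 5 → F), W ≠ ⊥ → W ≠ ⊤ → Cfsg.Geo.IsMaximalIn (Cfsg.Geo.specialLinear (Fin 5) F) (Cfsg.Geo.subspaceStabilizer W ⊓ Cfsg.Geo.specialLinear (Fin 5) F)) ∧
    (5 ≤ Fintype.card F → ∀ D : Fin 5 → Submodule F (Fin 5 → F), Cfsg.Geo.IsMDecomposition 1 D → Cfsg.Geo.IsMaximalIn (Cfsg.Geo.specialLinear (Fin 5) F) (Cfsg.Geo.decompositionStabilizer D ⊓ Cfsg.Geo.specialLinear (Fin 5) F)) ∧
    (∀ K : Subalgebra F (Matrix (Fin 5) (Fin 5) F), Cfsg.Geo.IsFieldSubalgebra 5 K → Cfsg.Geo.IsMaximalIn (Cfsg.Geo.specialLinear (Fin 5) F) (Cfsg.Geo.subalgebraNormalizer K ⊓ Cfsg.Geo.specialLinear (Fin 5) F)) ∧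
    (∀ (F₀ : Subfield F) (r : ℕ) (P : Matrix.GeneralLinearGroup (Fin 5) F), r.Prime → Fintype.card F = Nat.card F₀ ^ r → Cfsg.Geo.IsMaximalIn (Cfsg.Geo.specialLinear (Fin 5) F) (Cfsg.Geo.subfieldSubgroup F₀ P ⊓ Cfsg.Geo.specialLinear (Fin 5) F)) ∧
    ((∃ p : ℕ, p.Prime ∧ Fintype.card F = p ∧ (p % 5 = 1)) → ∀ R : Subgroup (Matrix.GeneralLinearGroup (Fin 5) F), Cfsg.Geo.IsLinearSymplecticTypeData 5 R → Cfsg.Geo.IsMaximalIn (Cfsg.Geo.specialLinear (Fin 5) F) (Cfsg.Geo.subgroupNormalizer R ⊓ Cfsg.Geo.specialLinear (Fin 5) F)) ∧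
    (Odd (Fintype.card F) → ∀ Q : (Fin 5 → F) → F, Cfsg.Geo.IsNondegenerateQuadraticForm Q → Cfsg.Geo.IsMaximalIn (Cfsg.Geo.specialLinear (Fin 5) F) (Cfsg.Geo.quadSimilarityGroup Q ⊓ Cfsg.Geo.specialLinear (Fin 5) F)) ∧
    (∀ (σ : F ≃+* F) (f : (Fin 5 → F) → (Fin 5 → F) → F), Cfsg.Geo.IsUnitaryForm σ f → Cfsg.Geo.IsMaximalIn (Cfsg.Geo.specialLinear (Fin 5) F) (Cfsg.Geo.similarityGroup f ⊓ Cfsg.Geo.specialLinear (Fin 5) F)) := by
  exact ⟨fun W h0 h1 => H1.SLAll.subspace_max W h0 h1,
    fun h _ hD => Cfsg.Agent.H8.L5a.lines_max h hD,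
    fun _ hK => Cfsg.Agent.H8.L5.ext_max hK,
    fun F₀ _ P hr hc => H1.C5.subfield_max (by simp) F₀ hr hc P,
    fun h R hR => Cfsg.Agent.H8.L5.es_max h R hR,
    fun h _ hQ => Cfsg.Agent.H8.L5b.quad_max (by simp) h hQ,
    fun _ _ hf => H7.SL4b.unit_max (by simp) hf⟩

end Cfsg.Agent.S5792
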