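import Cfsg.Statements.S5847
import Cfsg.Agent.Asch.OMax

set_option autoImplicit false
open Cfsg

namespace Cfsg.Agent.S5847

/-- Every maximal subgroup of Ω_10^+(q) is of one of the listed geometric types or lies in the residual class. Let F be a finite field with q elements (characteristic p), Q a non-degenerate quadratic form on F^10 of plus type (Witt index 5: some totally singular 5-space), Ω the commutator subgroup of its isometry group, and H a maximal subgroup of Ω (inside GL_10(F)). Then H is the intersection with Ω of one of: the stabiliser of a non-zero totally singular subspace of dimension ≠ 4; for q odd, the stabiliser of a non-degenerate subspace of odd dimension ≠ 5; the stabiliser of a non-degenerate 2-space of minus type; for q ≥ 4, the stabiliser of a non-degenerate 2-space of plus type; the stabiliser of a non-degenerate 4-space; for q even, the stabiliser of the span of a non-singular vector; for q = p prime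 with p ≡ 1 mod 4, the stabiliser of a decomposition into 10 pairwise orthogonal, pairwise isometric non-degenerate 1-spaces; for q ≥ 7, the stabiliser of a decomposition into 5 pairwise orthogonal, pairwise isometric non-degenerate 2-spaces; for q ≡ 1 mod 4, the stabiliser of a decomposition into 2 pairwise orthogonal, pairwise isometric non-degenerate 5-spaces; for q ≡ 3 mod 4, the stabiliser of a decomposition into two orthogonal, non-isometric non-degenerate 5-spaces; for q odd, the normaliser of a degree-2 subfield of the matrix algebra, self-adjoint for the polar form; a subfield group (|F| = |F₀|^r, r prime) whose F₀-structure carries a non-zero multiple of Q — or else H lies in the residual class of the orthogonal case (modulo scalars H is almost simple, with absolutely irreducible perfect socle preimage realisable over no proper subfield and fixing no non-degenerate unitary form). -/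
theorem result {F : Type*} [Field F] [Fintype F] (Q : (Fin 10 → F) → F) (hQ : Cfsg.Geo.IsNondegenerateQuadraticForm Q) (hplus : Cfsg.Geo.IsPlusTypeOn Q ⊤) (H : Subgroup (Matrix.GeneralLinearGroup (Fin 10) F)) (hH : Cfsg.Geo.IsMaximalIn (Cfsg.Geo.omegaGL Q) H) :
    (∃ W : Submodule F (Fin 10 → F), W ≠ ⊥ ∧ Cfsg.Geo.IsTotallySingularQuad Q W ∧ Module.finrank F W ≠ 4 ∧ H = Cfsg.Geo.subspaceStabilizer W ⊓ Cfsg.Geo.omegaGL Q) ∨
    (Odd (Fintype.card F) ∧ ∃ W : Submodule F (Fin 10 → F), W ≠ ⊥ ∧ W ≠ ⊤ ∧ Odd (Module.finrank F W) ∧ 2 * Module.finrank F W ≠ 10 ∧ Cfsg.Geo.IsNondegenerateOn (QuadraticMap.polar Q) W ∧ H = Cfsg.Geo.subspaceStabilizer W ⊓ Cfsg.Geo.omegaGL Q) ∨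
    (∃ W : Submodule F (Fin 10 → F), Module.finrank F W = 2 ∧ Cfsg.Geo.IsNondegenerateOn (QuadraticMap.polar Q) W ∧ ¬ Cfsg.Geo.IsPlusTypeOn Q W ∧ H = Cfsg.Geo.subspaceStabilizer W ⊓ Cfsg.Geo.omegaGL Q) ∨
    (4 ≤ Fintype.card F ∧ ∃ W : Submodule F (Fin 10 → F), Module.finrank F W = 2 ∧ Cfsg.Geo.IsNondegenerateOn (QuadraticMap.polar Q) W ∧ Cfsg.Geo.IsPlusTypeOn Q W ∧ H = Cfsg.Geo.subspaceStabilizer W ⊓ Cfsg.Geo.omegaGL Q) ∨
    (∃ W : Submodule F (Fin 10 → F), Module.finrank F W = 4 ∧ Cfsg.Geo.IsNondegenerateOn (QuadraticMap.polar Q) W ∧ H = Cfsg.Geo.subspaceStabilizer W ⊓ Cfsg.Geo.omegaGL Q) ∨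
    (¬ Odd (Fintype.card F) ∧ ∃ v : (Fin 10 → F), Q v ≠ 0 ∧ H = Cfsg.Geo.subspaceStabilizer (Submodule.span F {v}) ⊓ Cfsg.Geo.omegaGL Q) ∨
    ((∃ p : ℕ, p.Prime ∧ Fintype.card F = p ∧ (p % 4 = 1)) ∧ ∃ D : Fin 10 → Submodule F (Fin 10 → F), Cfsg.Geo.IsOrthogonalMDecomposition Q 1 D ∧ H = Cfsg.Geo.decompositionStabilizer D ⊓ Cfsg.Geo.omegaGL Q) ∨
    (7 ≤ Fintype.card F ∧ ∃ D : Fin 5 → Submodule F (Fin 10 → F), Cfsg.Geo.IsOrthogonalMDecomposition Q 2 D ∧ H = Cfsg.Geo.decompositionStabilizer D ⊓ Cfsg.Geo.omegaGL Q) ∨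
    (Fintype.card F % 4 = 1 ∧ ∃ D : Fin 2 → Submodule F (Fin 10 → F), Cfsg.Geo.IsOrthogonalMDecomposition Q 5 D ∧ H = Cfsg.Geo.decompositionStabilizer D ⊓ Cfsg.Geo.omegaGL Q) ∨
    (Fintype.card F % 4 = 3 ∧ ∃ D : Fin 2 → Submodule F (Fin 10 → F), Cfsg.Geo.IsNondegenerateMDecomposition (QuadraticMap.polar Q) 5 D ∧ ¬ Cfsg.Geo.AreIsometricFor Q (D 0) (D 1) ∧ H = Cfsg.Geo.decompositionStabilizer D ⊓ Cfsg.Geo.omegaGL Q) ∨
    (Odd (Fintype.card F) ∧ ∃ K : Subalgebra F (Matrix (Fin 10) (Fin 10) F), Cfsg.Geo.IsFieldSubalgebra 2 K ∧ Cfsg.Geo.IsSelfAdjointFor (QuadraticMap.polar Q) K ∧ H = Cfsg.Geo.subalgebraNormalizer K ⊓ Cfsg.Geo.omegaGL Q) ∨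
    (∃ (F₀ : Subfield F) (r : ℕ) (P : Matrix.GeneralLinearGroup (Fin 10) F) (ζ : F), r.Prime ∧ Fintype.card F = Nat.card F₀ ^ r ∧ ζ ≠ 0 ∧ Cfsg.Geo.IsQuadFormRationalStructure (fun v : Fin 10 → F => ζ * Q v) F₀ P ∧ H = Cfsg.Geo.subfieldSubgroup F₀ P ⊓ Cfsg.Geo.omegaGL Q) ∨
    Cfsg.Geo.InOrthogonalResidualClass H := by
  rcases Asch.oMax hQ (by simp) hH with ⟨W, h1, h2, h3, h⟩ | ⟨W, h1, h2, h3, h4, h5, h6, h7, h8, h⟩ | ⟨v, h1, h2, h⟩ |
    ⟨t, k, D, h1, h2, h3, h4, h5, h6, h7, h8, h9, h10, h⟩ | ⟨k, D, h1, h2, h3, h4, h5, h6, h⟩ |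
    ⟨k, D, h1, h2, h3, h4, h5, h⟩ | ⟨r, K, h1, h2, h3, h4, h5, h6, h7, h⟩ | ⟨K, h1, h2, h3, h4, h5, h⟩ |
    ⟨n₁, n₂, e, P, f₁, f₂, h1, h2, h3, h4, h5, h6, h7, h8, h9, h10, h⟩ |
    ⟨n₁, n₂, e, P, f₁, f₂, h1, h2, h3, h4, h5, h6, h7, h8, h9, h10, h11, h⟩ | ⟨F₀, r, P, ζ, h1, h2, h3, h4, h5, h⟩ |
    ⟨k, t, h1, h2, h3, h4⟩ | ⟨k, t, h1, h2, h3⟩ | h <;> try simp only [Fintype.card_fin] at *
  · exact .inl ⟨W, h1, h2, by have := h3 hplus; omega, h⟩
  · rcases Nat.even_or_odd (Module.finrank F W) with he | ho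
    swap
    · exact .inr (.inl ⟨h6 ho, W, h1, h2, ho, fun h0 => Nat.not_even_iff_odd.2 ho (h8 h0).1, h3, h⟩)
    have h9 := Nat.even_iff.1 he
    by_cases h10 : Module.finrank F W = 2
    · by_cases h11 : Geo.IsPlusTypeOn Q W
      · exact .inr (.inr (.inr (.inl ⟨h7 h10 h11, W, h10, h3, h11, h⟩)))
      · exact .inr (.inr (.inl ⟨W, h10, h3, h11, h⟩))
    exact .inr (.inr (.inr (.inr (.inl ⟨W, by omega, h3, h⟩))))
  · exact .inr (.inr (.inr (.inr (.inr (.inl ⟨h1, v, h2, h⟩)))))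
  · have h11 : k ≤ 5 := by nlinarith
    have h12 := h1.decomp.decomp.pos
    interval_cases k
    · obtain rfl : t = 10 := by omega
      exact .inr (.inr (.inr (.inr (.inr (.inr (.inl ⟨⟨_, h4 rfl, rfl, by simpa using (h10 (by decide) (by decide)).1 hplus⟩, D, h1, h⟩))))))
    · obtain rfl : t = 5 := by omega
      exact .inr (.inr (.inr (.inr (.inr (.inr (.inr (.inl ⟨(h6 rfl).2 (((h9 (by decide)).2.1 hplus).resolve_right (by decide)), D, h1, h⟩)))))))
    · omega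
    · omega
    · obtain rfl : t = 2 := by omega
      exact .inr (.inr (.inr (.inr (.inr (.inr (.inr (.inr (.inl ⟨by simpa using (h10 (by decide) (by decide)).1 hplus, D, h1, h⟩))))))))
  · obtain rfl : k = 5 := by omega
    exact .inr (.inr (.inr (.inr (.inr (.inr (.inr (.inr (.inr (.inl ⟨h6.1 hplus, D, h1, h5, h⟩)))))))))
  · have := Nat.even_iff.1 h3; omega
  · rcases (Nat.Prime.dvd_mul h1 (m := 2) (n := 5)).1 h2 with h8 | h8
    · obtain rfl := (Nat.prime_dvd_prime_iff_eq h1 Nat.prime_two).1 h8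
      exact .inr (.inr (.inr (.inr (.inr (.inr (.inr (.inr (.inr (.inr (.inl ⟨by by_contra h0; have := h5 h0; omega, K, h6, h7, h⟩))))))))))
    · obtain rfl := (Nat.prime_dvd_prime_iff_eq h1 Nat.prime_five).1 h8
      exact absurd rfl (h4 (by decide))
  · have := h5.1 hplus; omega
  · have : n₁ ≤ 3 := by nlinarith
    interval_cases n₁; omega
  · obtain ⟨a, rfl⟩ := h4
    obtain ⟨b, rfl⟩ := h5
    have : 4 * (a * b) = 10 := by linarith
    omega
  · exact .inr (.inr (.inr (.inr (.inr (.inr (.inr (.inr (.inr (.inr (.inr (.inl ⟨F₀, r, P, ζ, h1, h2, h3, h5, h⟩)))))))))))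
  · have := Asch.pow_small h1 h2 h3 (by omega); omega
  · have := Asch.pow_small (by omega) h2 h3 (by omega); omega
  · exact .inr (.inr (.inr (.inr (.inr (.inr (.inr (.inr (.inr (.inr (.inr (.inr (h))))))))))))

end Cfsg.Agent.S5847
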