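import Cfsg.Statements.S5874
import Cfsg.Agent.Asch.OMax

set_option autoImplicit false
open Cfsg

namespace Cfsg.Agent.S5874

/-- Every maximal subgroup of Ω_12^-(q) is of one of the listed geometric types or lies in the residual class. Let F be a finite field with q elements (characteristic p), Q a non-degenerate quadratic form on F^12 of minus type (Witt index 5: no totally singular 6-space), Ω the commutator subgroup of its isometry group, and H a maximal subgroup of Ω (inside GL_12(F)). Then H is the intersection with Ω of one of: the stabiliser of a non-zero totally singular subspace; for q odd, the stabiliser of a non-degenerate subspace of odd dimension; the stabiliser of a non-degenerate 2-space of minus type; for q ≥ 4, the stabiliser of a non-degenerate 2-space of plus type; the stabiliser of a non-degenerate 4-space; the stabiliser of a non-degenerate 6-space; for q even, the stabiliser of the span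 of a non-singular vector; the stabiliser of a decomposition into 3 pairwise orthogonal, pairwise isometric non-degenerate 4-spaces of minus type; the normaliser of a degree-2 subfield of the matrix algebra; the normaliser of a degree-3 subfield of the matrix algebra; for q odd with q ≥ 5, the stabiliser of a tensor decomposition of the polar form into symmetric forms on F^3 and F^4 (minus type); a subfield group (|F| = |F₀|^r, r odd prime) whose F₀-structure carries a non-zero multiple of Q — or else H lies in the residual class of the orthogonal case (modulo scalars H is almost simple, with absolutely irreducible perfect socle preimage realisable over no proper subfield and fixing no non-degenerate unitary form). -/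
theorem result {F : Type*} [Field F] [Fintype F] (Q : (Fin 12 → F) → F) (hQ : Cfsg.Geo.IsNondegenerateQuadraticForm Q) (hminus : ¬ Cfsg.Geo.IsPlusTypeOn Q ⊤) (H : Subgroup (Matrix.GeneralLinearGroup (Fin 12) F)) (hH : Cfsg.Geo.IsMaximalIn (Cfsg.Geo.omegaGL Q) H) :
    (∃ W : Submodule F (Fin 12 → F), W ≠ ⊥ ∧ Cfsg.Geo.IsTotallySingularQuad Q W ∧ H = Cfsg.Geo.subspaceStabilizer W ⊓ Cfsg.Geo.omegaGL Q) ∨
    (Odd (Fintype.card F) ∧ ∃ W : Submodule F (Fin 12 → F), W ≠ ⊥ ∧ W ≠ ⊤ ∧ Odd (Module.finrank F W) ∧ 2 * Module.finrank F W ≠ 12 ∧ Cfsg.Geo.IsNondegenerateOn (QuadraticMap.polar Q) W ∧ H = Cfsg.Geo.subspaceStabilizer W ⊓ Cfsg.Geo.omegaGL Q) ∨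
    (∃ W : Submodule F (Fin 12 → F), Module.finrank F W = 2 ∧ Cfsg.Geo.IsNondegenerateOn (QuadraticMap.polar Q) W ∧ ¬ Cfsg.Geo.IsPlusTypeOn Q W ∧ H = Cfsg.Geo.subspaceStabilizer W ⊓ Cfsg.Geo.omegaGL Q) ∨
    (4 ≤ Fintype.card F ∧ ∃ W : Submodule F (Fin 12 → F), Module.finrank F W = 2 ∧ Cfsg.Geo.IsNondegenerateOn (QuadraticMap.polar Q) W ∧ Cfsg.Geo.IsPlusTypeOn Q W ∧ H = Cfsg.Geo.subspaceStabilizer W ⊓ Cfsg.Geo.omegaGL Q) ∨
    (∃ W : Submodule F (Fin 12 → F), Module.finrank F W = 4 ∧ Cfsg.Geo.IsNondegenerateOn (QuadraticMap.polar Q) W ∧ H = Cfsg.Geo.subspaceStabilizer W ⊓ Cfsg.Geo.omegaGL Q) ∨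
    (∃ W : Submodule F (Fin 12 → F), Module.finrank F W = 6 ∧ Cfsg.Geo.IsNondegenerateOn (QuadraticMap.polar Q) W ∧ H = Cfsg.Geo.subspaceStabilizer W ⊓ Cfsg.Geo.omegaGL Q) ∨
    (¬ Odd (Fintype.card F) ∧ ∃ v : (Fin 12 → F), Q v ≠ 0 ∧ H = Cfsg.Geo.subspaceStabilizer (Submodule.span F {v}) ⊓ Cfsg.Geo.omegaGL Q) ∨
    (∃ D : Fin 3 → Submodule F (Fin 12 → F), Cfsg.Geo.IsOrthogonalMDecomposition Q 4 D ∧ (∀ i, ¬ Cfsg.Geo.IsPlusTypeOn Q (D i)) ∧ H = Cfsg.Geo.decompositionStabilizer D ⊓ Cfsg.Geo.omegaGL Q) ∨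
    (∃ K : Subalgebra F (Matrix (Fin 12) (Fin 12) F), Cfsg.Geo.IsFieldSubalgebra 2 K ∧ H = Cfsg.Geo.subalgebraNormalizer K ⊓ Cfsg.Geo.omegaGL Q) ∨
    (∃ K : Subalgebra F (Matrix (Fin 12) (Fin 12) F), Cfsg.Geo.IsFieldSubalgebra 3 K ∧ H = Cfsg.Geo.subalgebraNormalizer K ⊓ Cfsg.Geo.omegaGL Q) ∨
    (Odd (Fintype.card F) ∧ 5 ≤ Fintype.card F ∧ ∃ (e : Fin 12 ≃ Fin 3 × Fin 4) (P : Matrix.GeneralLinearGroup (Fin 12) F) (f₁ : (Fin 3 → F) → (Fin 3 → F) → F) (f₂ : (Fin 4 → F) → (Fin 4 → F) → F), Cfsg.Geo.IsSymmetricForm f₁ ∧ Cfsg.Geo.IsSymmetricForm f₂ ∧ ¬ Cfsg.Geo.IsPlusTypeOn (fun v : Fin 4 → F => f₂ v v) ⊤ ∧ Cfsg.Geo.IsTensorFormStructure id (QuadraticMap.polar Q) f₁ f₂ e P ∧ H = Cfsg.Geo.tensorProductSubgroup 3 4 e P ⊓ Cfsg.Geo.omegaGL Q) ∨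
    (∃ (F₀ : Subfield F) (r : ℕ) (P : Matrix.GeneralLinearGroup (Fin 12) F) (ζ : F), r.Prime ∧ Odd r ∧ Fintype.card F = Nat.card F₀ ^ r ∧ ζ ≠ 0 ∧ Cfsg.Geo.IsQuadFormRationalStructure (fun v : Fin 12 → F => ζ * Q v) F₀ P ∧ H = Cfsg.Geo.subfieldSubgroup F₀ P ⊓ Cfsg.Geo.omegaGL Q) ∨
    Cfsg.Geo.InOrthogonalResidualClass H := by
  rcases Asch.oMax hQ (by simp) hH with ⟨W, h1, h2, h3, h⟩ | ⟨W, h1, h2, h3, h4, h5, h6, h7, h8, h⟩ | ⟨v, h1, h2, h⟩ |
    ⟨t, k, D, h1, h2, h3, h4, h5, h6, h7, h8, h9, h10, h⟩ | ⟨k, D, h1, h2, h3, h4, h5, h6, h⟩ |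
    ⟨k, D, h1, h2, h3, h4, h5, h⟩ | ⟨r, K, h1, h2, h3, h4, h5, h6, h7, h⟩ | ⟨K, h1, h2, h3, h4, h5, h⟩ |
    ⟨n₁, n₂, e, P, f₁, f₂, h1, h2, h3, h4, h5, h6, h7, h8, h9, h10, h⟩ |
    ⟨n₁, n₂, e, P, f₁, f₂, h1, h2, h3, h4, h5, h6, h7, h8, h9, h10, h11, h⟩ | ⟨F₀, r, P, ζ, h1, h2, h3, h4, h5, h⟩ |
    ⟨k, t, h1, h2, h3, h4⟩ | ⟨k, t, h1, h2, h3⟩ | h <;> try simp only [Fintype.card_fin] at *
  · exact .inl ⟨W, h1, h2, h⟩
  · rcases Nat.even_or_odd (Module.finrank F W) with he | ho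
    swap
    · exact .inr (.inl ⟨h6 ho, W, h1, h2, ho, fun h0 => Nat.not_even_iff_odd.2 ho (h8 h0).1, h3, h⟩)
    have h9 := Nat.even_iff.1 he
    by_cases h10 : Module.finrank F W = 2
    · by_cases h11 : Geo.IsPlusTypeOn Q W
      · exact .inr (.inr (.inr (.inl ⟨h7 h10 h11, W, h10, h3, h11, h⟩)))
      · exact .inr (.inr (.inl ⟨W, h10, h3, h11, h⟩))
    by_cases h11 : Module.finrank F W = 6
    · exact .inr (.inr (.inr (.inr (.inr (.inl ⟨W, h11, h3, h⟩)))))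
    exact .inr (.inr (.inr (.inr (.inl ⟨W, by omega, h3, h⟩))))
  · exact .inr (.inr (.inr (.inr (.inr (.inr (.inl ⟨h1, v, h2, h⟩))))))
  · have h11 : k ≤ 6 := by nlinarith
    have h12 := h1.decomp.decomp.pos
    interval_cases k
    · exact absurd ((h10 (by decide) ⟨6, by omega⟩).2 (.inr (by omega))) hminus
    · exact absurd ((h9 (by decide)).2.2 (.inr ⟨3, by omega⟩)) hminus
    · exact absurd ((h10 (by decide) ⟨2, by omega⟩).2 (.inr (by omega))) hminus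
    · obtain rfl : t = 3 := by omega
      exact .inr (.inr (.inr (.inr (.inr (.inr (.inr (.inl ⟨D, h1, (h9 (by decide)).1.resolve_left fun h0 => hminus ((h9 (by decide)).2.2 (.inl h0)), h⟩)))))))
    · omega
    · exact absurd ((h9 (by decide)).2.2 (.inr ⟨1, by omega⟩)) hminus
  · have := Nat.odd_iff.1 h3; omega
  · exact absurd h5 hminus
  · rcases (Nat.Prime.dvd_mul h1 (m := 2 ^ 2) (n := 3)).1 h2 with h8 | h8
    · obtain rfl := (Nat.prime_dvd_prime_iff_eq h1 Nat.prime_two).1 (h1.dvd_of_dvd_pow h8)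
      exact .inr (.inr (.inr (.inr (.inr (.inr (.inr (.inr (.inl ⟨K, h6, h⟩))))))))
    · obtain rfl := (Nat.prime_dvd_prime_iff_eq h1 Nat.prime_three).1 h8
      exact .inr (.inr (.inr (.inr (.inr (.inr (.inr (.inr (.inr (.inl ⟨K, h6, h⟩)))))))))
  · exact .inr (.inr (.inr (.inr (.inr (.inr (.inr (.inr (.inl ⟨K, h1, h⟩))))))))
  · have : n₁ ≤ 3 := by nlinarith
    obtain rfl : n₁ = 3 := by omega
    obtain rfl : n₂ = 4 := by omega
    exact .inr (.inr (.inr (.inr (.inr (.inr (.inr (.inr (.inr (.inr (.inl ⟨h2, H2.Cases.five_le_of_odd h2 fun h0 => h6 ⟨h0, rfl⟩, e, P, f₁, f₂, h8, h9, (h7 rfl rfl).1, h10, h⟩))))))))))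
  · exact absurd h11 hminus
  · exact .inr (.inr (.inr (.inr (.inr (.inr (.inr (.inr (.inr (.inr (.inr (.inl ⟨F₀, r, P, ζ, h1, h4 (by decide) hminus, h2, h3, h5, h⟩)))))))))))
  · have := Asch.pow_small h1 h2 h3 (by omega); omega
  · have := Asch.pow_small (by omega) h2 h3 (by omega); omega
  · exact .inr (.inr (.inr (.inr (.inr (.inr (.inr (.inr (.inr (.inr (.inr (.inr (h))))))))))))

end Cfsg.Agent.S5874
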